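import Groth.Agent.Lib.HopfIdem23.Basic
import Mathlib.RingTheory.MvPolynomial.Ideal
import Mathlib.RingTheory.Smooth.Locus
import Mathlib.RingTheory.Smooth.Field
import Mathlib.RingTheory.KrullDimension.Zero
import Mathlib.RingTheory.LocalProperties.Reduced
import Mathlib.FieldTheory.Perfect
import Mathlib.RingTheory.Localization.Away.Basic
import Mathlib.FieldTheory.IsAlgClosed.Basic

/-!
# Ideals inside the square of the augmentation ideal with liftable quotient
-/

universe u v w

open TensorProduct WithConv Groth.Agent.TruncPoly23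

noncomputable section

namespace Groth.Agent.HopfIdem23

variable {k : Type u} [Field k] {A : Type v} [CommRing A] [HopfAlgebra k A]

/-- Infinitesimal lifting for maps killing an ideal, near the unit. -/
def Lifts (I : Ideal A) : Prop :=
  ∀ (Q : Type u) [CommRing Q] [Algebra k Q] (J : Ideal Q), IsNilpotent J → ∀ g : A →ₐ[k] Q ⧸ J,
    (∀ a ∈ I, g a = 0) → (∀ a ∈ aug k A, IsNilpotent (g a)) →
    ∃ F : A →ₐ[k] Q, (∀ a ∈ I, F a = 0) ∧ (Ideal.Quotient.mkₐ k J).comp F = g

theorem lifts_of_formallySmooth (I : Ideal A) [Algebra.FormallySmooth k (A ⧸ I)] : Lifts (k := k) I := by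
  intro Q _ _ J hJ g hg _
  obtain ⟨F, hF⟩ := Algebra.FormallySmooth.exists_lift J hJ (Ideal.Quotient.liftₐ I g hg)
  refine ⟨F.comp (Ideal.Quotient.mkₐ k I), fun a ha => ?_, ?_⟩
  · simp [Ideal.Quotient.eq_zero_iff_mem.2 ha]
  · rw [← AlgHom.comp_assoc, hF]; exact AlgHom.ext fun a => rfl

theorem prod_sub_prod_mem {R : Type w} [CommRing R] (M : Ideal R) {ι : Type*} (s : Finset ι) (u v : ι → R)
    (hv : ∀ i ∈ s, v i ∈ M) (huv : ∀ i ∈ s, u i - v i ∈ M ^ 2) (m : ι → ℕ) :
    ∏ i ∈ s, u i ^ m i - ∏ i ∈ s, v i ^ m i ∈ M ^ (∑ i ∈ s, m i + 1) := by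
  let P : R → R → ℕ → Prop := fun a b n => a ∈ M ^ n ∧ b ∈ M ^ n ∧ a - b ∈ M ^ (n + 1)
  have hmul : ∀ {a b n a' b' n'}, P a b n → P a' b' n' → P (a * a') (b * b') (n + n') := by
    rintro a b n a' b' n' ⟨ha, hb, hab⟩ ⟨ha', hb', hab'⟩
    refine ⟨?_, ?_, ?_⟩
    · rw [pow_add]; exact Ideal.mul_mem_mul ha ha'
    · rw [pow_add]; exact Ideal.mul_mem_mul hb hb'
    · rw [show a * a' - b * b' = a * (a' - b') + (a - b) * b' by ring]
      refine add_mem ?_ ?_
      · rw [add_assoc, pow_add]; exact Ideal.mul_mem_mul ha hab'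
      · rw [add_right_comm, pow_add]; exact Ideal.mul_mem_mul hab hb'
  have h1 : P 1 1 0 := ⟨by simp, by simp, by simp⟩
  have hpow : ∀ i ∈ s, ∀ e, P (u i ^ e) (v i ^ e) e := by
    intro i hi e
    induction e with
    | zero => simpa using h1
    | succ e ih =>
      rw [pow_succ, pow_succ]
      refine hmul ih ⟨?_, by simpa using hv i hi, huv i hi⟩
      rw [pow_one, show u i = (u i - v i) + v i by ring]
      exact add_mem (Ideal.pow_le_self two_ne_zero (huv i hi)) (hv i hi)
  suffices P (∏ i ∈ s, u i ^ m i) (∏ i ∈ s, v i ^ m i) (∑ i ∈ s, m i) from this.2.2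
  classical
  induction s using Finset.induction with
  | empty => simpa using h1
  | insert a s ha ih =>
    rw [Finset.prod_insert ha, Finset.prod_insert ha, Finset.sum_insert ha]
    exact hmul (hpow a (Finset.mem_insert_self _ _) _) (ih (fun i hi => hv i (Finset.mem_insert_of_mem hi))
      (fun i hi => huv i (Finset.mem_insert_of_mem hi)) fun i hi e => hpow i (Finset.mem_insert_of_mem hi) e)

/-- An ideal in the square of the augmentation ideal with liftable quotient lies in all its powers. -/
theorem le_pow_of_lifts [IsNoetherianRing A] (I : Ideal A) (hL : Lifts (k := k) I) (h2 : I ≤ aug k A ^ 2) :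
    ∀ n, I ≤ aug k A ^ n := by
  classical
  have := finite_cotangent (k := k) (A := A)
  let d := Module.finrank k (aug k A).Cotangent
  let b : Module.Basis (Fin d) k (aug k A).Cotangent := Module.finBasis k (aug k A).Cotangent
  intro n
  induction n with
  | zero => simp
  | succ n ih =>
    rcases lt_or_ge n 2 with hn | hn
    · exact h2.trans (Ideal.pow_le_pow_right (by omega))
    intro x hx
    obtain ⟨s, hs, r, hr, rfl⟩ := Submodule.mem_sup.1 (pow_le_monoSpan_sup b n (ih hx))
    have hset : {m : Fin d → ℕ | ∑ i, m i = n} = ((deg n : Finset (Fin d → ℕ)) : Set _) :=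
      Set.ext fun m => mem_deg.symm
    rw [monoSpan, hset, Finsupp.mem_span_image_iff_linearCombination] at hs
    obtain ⟨f, hf, hf'⟩ := hs
    have hsum : ∑ m ∈ deg n, f m • mono b m = s := by
      rw [← hf', Finsupp.linearCombination_apply, Finsupp.sum]
      refine (Finset.sum_subset (Finset.coe_subset.1 ((Finsupp.mem_supported _ _).1 hf)) fun m _ hm => ?_).symm
      rw [Finsupp.notMem_support_iff.1 hm, zero_smul]
    let T := MvPolynomial (Fin d) k
    let M : Ideal T := MvPolynomial.idealOfVars (Fin d) k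
    let Q := T ⧸ M ^ (n + 1)
    let q : T →ₐ[k] Q := Ideal.Quotient.mkₐ k (M ^ (n + 1))
    let J : Ideal Q := (M ^ 2).map q
    have hMnil : ((M.map q) ^ (n + 1) : Ideal Q) = ⊥ := by
      rw [← Ideal.map_pow, eq_bot_iff, Ideal.map_le_iff_le_comap]
      intro z hz
      exact Ideal.Quotient.eq_zero_iff_mem.2 hz
    have hJ : IsNilpotent J := by
      refine ⟨n + 1, ?_⟩
      rw [Ideal.zero_eq_bot, eq_bot_iff, ← hMnil]
      exact Ideal.pow_right_mono (Ideal.map_mono (Ideal.pow_le_self two_ne_zero)) _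
    let p : A →ₗ[k] T := Algebra.linearMap k T ∘ₗ (Bialgebra.counitAlgHom k A).toLinearMap +
      ∑ i, (LinearMap.toSpanSingleton k T (MvPolynomial.X i)) ∘ₗ tan b i
    have hp : ∀ a, p a = algebraMap k T (Bialgebra.counitAlgHom k A a) + ∑ i, tan b i a • MvPolynomial.X i :=
      fun a => by simp [p]
    have hlin : ∀ a, ∑ i, tan b i a • (MvPolynomial.X i : T) ∈ M := fun a =>
      Submodule.sum_mem _ fun i _ => Submodule.smul_of_tower_mem _ _ (Ideal.subset_span ⟨i, rfl⟩)
    have hone : ∀ i, tan b i (1 : A) = 0 := fun i => by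
      have := tan_mul b i (1 : A) 1
      simpa using this
    let g : A →ₐ[k] Q ⧸ J := AlgHom.ofLinearMap ((Ideal.Quotient.mkₐ k J).toLinearMap ∘ₗ q.toLinearMap ∘ₗ p)
      (by
        show Ideal.Quotient.mk J (q (p 1)) = 1
        simp [hp, hone])
      (fun a c => by
        show Ideal.Quotient.mk J (q (p (a * c))) = Ideal.Quotient.mk J (q (p a)) * Ideal.Quotient.mk J (q (p c))
        rw [← map_mul, ← map_mul, Ideal.Quotient.eq, ← map_sub]
        refine Ideal.mem_map_of_mem _ ?_
        have hmem := Ideal.mul_mem_mul (hlin a) (hlin c)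
        rw [← pow_two] at hmem
        have he : p (a * c) - p a * p c = -((∑ i, tan b i a • MvPolynomial.X i) * ∑ i, tan b i c • MvPolynomial.X i) := by
          simp only [hp, map_mul, tan_mul, add_smul, mul_smul, Finset.sum_add_distrib, ← Finset.smul_sum]
          simp only [Algebra.smul_def]
          ring
        rw [he]
        exact neg_mem hmem)
    have hgI : ∀ a ∈ I, g a = 0 := by
      intro a ha
      have ha2 := h2 ha
      have hε : Bialgebra.counitAlgHom k A a = 0 := Ideal.pow_le_self two_ne_zero ha2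
      have htan : ∀ i, tan b i a = 0 := fun i => by
        rw [tan, LinearMap.comp_apply, proj_of_mem (k := k) (Ideal.pow_le_self two_ne_zero ha2),
          (Ideal.toCotangent_eq_zero _ ⟨a, Ideal.pow_le_self two_ne_zero ha2⟩).2 ha2, map_zero]
      show Ideal.Quotient.mk J (q (p a)) = 0
      simp [hp, hε, htan, -Bialgebra.counitAlgHom_apply]
    have hgaug : ∀ a ∈ aug k A, p a ∈ M := fun a ha => by
      rw [hp, show Bialgebra.counitAlgHom k A a = 0 from ha, map_zero, zero_add]; exact hlin a
    have hgnil : ∀ a ∈ aug k A, IsNilpotent (g a) := by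
      intro a ha
      refine ⟨n + 1, ?_⟩
      show (Ideal.Quotient.mk J (q (p a))) ^ (n + 1) = 0
      rw [← map_pow, ← map_pow, show q (p a ^ (n + 1)) = 0 from
        Ideal.Quotient.eq_zero_iff_mem.2 (Ideal.pow_mem_pow (hgaug a ha) _), map_zero]
    obtain ⟨F, hFI, hF⟩ := hL Q J hJ g hgI hgnil
    have hFg : ∀ a, F a - q (p a) ∈ J := fun a => by
      rw [← Ideal.Quotient.eq]; exact AlgHom.congr_fun hF a
    have hFaug : ∀ a ∈ aug k A, F a ∈ M.map q := by
      intro a ha
      rw [show F a = (F a - q (p a)) + q (p a) by ring]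
      exact add_mem (Ideal.map_mono (Ideal.pow_le_self two_ne_zero) (hFg a)) (Ideal.mem_map_of_mem _ (hgaug a ha))
    have hFr : F r = 0 := by
      have : F r ∈ (M.map q) ^ (n + 1) := by
        have hle : Ideal.map F (aug k A) ≤ M.map q := Ideal.map_le_iff_le_comap.2 fun a ha => hFaug a ha
        exact (Ideal.map_pow F.toRingHom (aug k A) (n + 1) ▸ Ideal.pow_right_mono hle _) (Ideal.mem_map_of_mem _ hr)
      rwa [hMnil, Ideal.mem_bot] at this
    have hmono : ∀ m ∈ deg n, F (mono b m) = q (∏ i, MvPolynomial.X i ^ m i) := by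
      intro m hm
      have hpg : ∀ j, p (gen b j) = MvPolynomial.X j := fun j => by
        rw [hp, show Bialgebra.counitAlgHom k A (gen b j) = 0 from gen_mem b j, map_zero, zero_add]
        simp [tan, proj_gen, Finsupp.single_apply, ite_smul]
      rw [mono, map_prod, map_prod, ← sub_eq_zero]
      simp only [map_pow]
      have hmem := prod_sub_prod_mem (M.map q) Finset.univ (fun j => F (gen b j))
        (fun j => q (MvPolynomial.X j)) (fun j _ => Ideal.mem_map_of_mem _ (Ideal.subset_span ⟨j, rfl⟩))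
        (fun j _ => by
          have := hFg (gen b j)
          rw [hpg] at this
          rwa [← Ideal.map_pow]) m
      rwa [mem_deg.1 hm, hMnil, Ideal.mem_bot] at hmem
    have hzero : q (∑ m ∈ deg n, f m • ∏ i, MvPolynomial.X i ^ m i) = 0 := by
      rw [map_sum, ← hFI _ hx, map_add, hFr, add_zero, ← hsum, map_sum]
      exact Finset.sum_congr rfl fun m hm => by rw [map_smul, map_smul, hmono m hm]
    rw [Ideal.Quotient.mkₐ_eq_mk, Ideal.Quotient.eq_zero_iff_mem, MvPolynomial.mem_pow_idealOfVars_iff'] at hzero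
    have hc0 : ∀ m₀ ∈ deg n, f m₀ = 0 := by
      intro m₀ hm₀
      have h := hzero (Finsupp.equivFunOnFinite.symm m₀) (by
        rw [Finsupp.degree_eq_sum]
        simp [mem_deg.1 hm₀])
      rw [MvPolynomial.coeff_sum, Finset.sum_eq_single m₀] at h
      · have e : ∏ i, (MvPolynomial.X i : T) ^ m₀ i = MvPolynomial.monomial (Finsupp.equivFunOnFinite.symm m₀) 1 := by
          rw [MvPolynomial.monomial_eq, Finsupp.prod_fintype _ _ (by simp)]; simp
        rw [e, MvPolynomial.coeff_smul, MvPolynomial.coeff_monomial, if_pos rfl] at h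
        simpa using h
      · intro m _ hne
        have e : ∏ i, (MvPolynomial.X i : T) ^ m i = MvPolynomial.monomial (Finsupp.equivFunOnFinite.symm m) 1 := by
          rw [MvPolynomial.monomial_eq, Finsupp.prod_fintype _ _ (by simp)]; simp
        rw [e, MvPolynomial.coeff_smul, MvPolynomial.coeff_monomial, if_neg, smul_zero]
        exact fun h => hne (Finsupp.equivFunOnFinite.symm.injective h)
      · exact fun h => absurd hm₀ h
    rw [← hsum, Finset.sum_eq_zero fun m hm => by rw [hc0 m hm, zero_smul], zero_add]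
    exact hr

/-- Translation by a point. -/
def trans (g : A →ₐ[k] k) : A →ₐ[k] A := (toConv ((Algebra.ofId k A).comp g) * toConv (AlgHom.id k A)).ofConv

theorem trans_trans (g : A →ₐ[k] k) :
    (trans g).comp (trans (g.comp (HopfAlgebra.antipodeAlgHom k A))) = AlgHom.id k A := by
  have hc : ∀ h : A →ₐ[k] k, (trans g).comp ((Algebra.ofId k A).comp h) = (Algebra.ofId k A).comp h := fun h =>
    AlgHom.ext fun a => by simp
  have h1 : toConv ((Algebra.ofId k A).comp (g.comp (HopfAlgebra.antipodeAlgHom k A))) *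
      toConv ((Algebra.ofId k A).comp g) = 1 := by
    rw [← AlgHom.comp_assoc]; exact comp_antipode_mul _
  conv_lhs => rw [show trans (g.comp (HopfAlgebra.antipodeAlgHom k A)) =
    (toConv ((Algebra.ofId k A).comp (g.comp (HopfAlgebra.antipodeAlgHom k A))) * toConv (AlgHom.id k A)).ofConv from rfl]
  rw [AlgHom.comp_convMul_distrib]
  simp only [ofConv_toConv, hc, AlgHom.comp_id]
  show (toConv _ * (toConv ((Algebra.ofId k A).comp g) * toConv (AlgHom.id k A))).ofConv = _
  exact congrArg WithConv.ofConv ((mul_assoc (toConv ((Algebra.ofId k A).comp (g.comp (HopfAlgebra.antipodeAlgHom k A))) : WithConv (A →ₐ[k] A))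
    (toConv ((Algebra.ofId k A).comp g)) (toConv (AlgHom.id k A))).symm.trans
    ((congrArg (fun t : WithConv (A →ₐ[k] A) => t * toConv (AlgHom.id k A)) h1).trans (one_mul (toConv (AlgHom.id k A) : WithConv (A →ₐ[k] A)))))

theorem counit_trans (g : A →ₐ[k] k) (a : A) : Bialgebra.counitAlgHom k A (trans g a) = g a := by
  have h : (Bialgebra.counitAlgHom k A).comp (trans g) = g := by
    rw [show trans g = (toConv ((Algebra.ofId k A).comp g) * toConv (AlgHom.id k A)).ofConv from rfl,
      AlgHom.comp_convMul_distrib]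
    simp only [ofConv_toConv, AlgHom.comp_id]
    have e1 : (Bialgebra.counitAlgHom k A).comp ((Algebra.ofId k A).comp g) = g := AlgHom.ext fun a => by simp
    have e2 : (toConv (Bialgebra.counitAlgHom k A) : WithConv (A →ₐ[k] k)) = 1 :=
      ofConv_injective (AlgHom.ext fun a => by simp [AlgHom.convOne_apply])
    rw [e1, e2, mul_one]
  exact AlgHom.congr_fun h a

/-- Over an algebraically closed field the reduced quotient has the lifting property. -/
theorem lifts_nilradical [IsAlgClosed k] [Algebra.FiniteType k A] : Lifts (k := k) (nilradical A) := by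
  let B := A ⧸ nilradical A
  have : IsReduced B := (Ideal.isRadical_iff_quotient_reduced _).1 (Ideal.radical_isRadical _)
  have : Algebra.FiniteType k B := Algebra.FiniteType.of_surjective (Ideal.Quotient.mkₐ k _) Ideal.Quotient.mk_surjective
  have : Algebra.FinitePresentation k B := Algebra.FinitePresentation.of_finiteType.1 inferInstance
  have : Nontrivial A := (Bialgebra.counitAlgHom k A).toRingHom.domain_nontrivial
  have : Nontrivial B := Ideal.Quotient.nontrivial_iff.2 fun h => by
    have h1 : (1 : A) ∈ nilradical A := h ▸ Submodule.mem_top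
    exact not_isNilpotent_one h1
  obtain ⟨p, hp⟩ := Ideal.nonempty_minimalPrimes (I := (⊥ : Ideal B)) bot_ne_top
  have : p.IsPrime := hp.1.1
  let Bp := Localization.AtPrime p
  have : Ring.KrullDimLE 0 Bp := .of_isLocalization p hp _
  have : IsReduced Bp := isReduced_localizationPreserves p.primeCompl Bp inferInstance
  let : Field Bp := (Ring.KrullDimLE.isField_of_isReduced (R := Bp)).toField
  have : Algebra.EssFiniteType k Bp := Algebra.EssFiniteType.comp k B Bp
  have hsm : Algebra.IsSmoothAt k p := (inferInstance : Algebra.FormallySmooth k Bp)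
  obtain ⟨f, hf, hfs⟩ := Algebra.IsSmoothAt.exists_notMem_smooth k p
  have : IsJacobsonRing B := isJacobsonRing_of_finiteType (A := k) (B := B)
  obtain ⟨m, hm, hfm⟩ : ∃ m : Ideal B, m.IsMaximal ∧ f ∉ m := by
    by_contra h
    push Not at h
    have hmem : f ∈ (⊥ : Ideal B).jacobson := Submodule.mem_sInf.2 fun m hm => h m hm.2
    rw [IsJacobsonRing.out ‹IsJacobsonRing B› (I := (⊥ : Ideal B)) (Ideal.isRadical_bot)] at hmem
    exact hf (by simp [(Submodule.mem_bot _).1 hmem])
  obtain ⟨f, rfl⟩ := Ideal.Quotient.mk_surjective f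
  let : Field (B ⧸ m) := Ideal.Quotient.field m
  have : Module.Finite k (B ⧸ m) := finite_of_finite_type_of_isJacobsonRing k _
  let e : (B ⧸ m) ≃ₐ[k] k := (AlgEquiv.ofBijective (Algebra.ofId k (B ⧸ m))
    IsAlgClosed.algebraMap_bijective_of_isIntegral).symm
  let g₀ : A →ₐ[k] k := e.toAlgHom.comp ((Ideal.Quotient.mkₐ k m).comp (Ideal.Quotient.mkₐ k (nilradical A)))
  have hg₀ : g₀ f ≠ 0 := fun h => hfm (Ideal.Quotient.eq_zero_iff_mem.1 (e.injective (h.trans (map_zero e).symm)))
  intro Q _ _ J hJ g hgI hgnil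
  let h₁ : A →ₐ[k] Q ⧸ J := g.comp (trans g₀)
  let h₂ : B →ₐ[k] Q ⧸ J := Ideal.Quotient.liftₐ _ h₁ fun a ha =>
    hgI _ (mem_nilradical.2 ((mem_nilradical.1 ha).map (trans g₀)))
  have hunit : IsUnit (h₂ (Ideal.Quotient.mk _ f)) := by
    show IsUnit (g (trans g₀ f))
    rw [show trans g₀ f = (trans g₀ f - algebraMap k A (g₀ f)) + algebraMap k A (g₀ f) by ring, map_add,
      AlgHom.commutes]
    refine (hgnil _ ?_).isUnit_add_right_of_commute ((isUnit_iff_ne_zero.2 hg₀).map _) (Commute.all _ _)
    rw [RingHom.mem_ker, map_sub, counit_trans, AlgHom.commutes]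
    simp
  let L := Localization.Away (Ideal.Quotient.mk (nilradical A) f)
  let h₃ : L →ₐ[k] Q ⧸ J := IsLocalization.liftAlgHom (M := Submonoid.powers (Ideal.Quotient.mk (nilradical A) f))
    (f := h₂) (by rintro ⟨_, j, rfl⟩; simpa using hunit.pow j)
  obtain ⟨F, hF⟩ := Algebra.FormallySmooth.exists_lift J hJ h₃
  refine ⟨(F.comp (IsScalarTower.toAlgHom k B L)).comp
    ((Ideal.Quotient.mkₐ k (nilradical A)).comp (trans (g₀.comp (HopfAlgebra.antipodeAlgHom k A)))),
    fun a ha => ?_, ?_⟩
  · have h0 : Ideal.Quotient.mkₐ k (nilradical A) (trans (g₀.comp (HopfAlgebra.antipodeAlgHom k A)) a) = 0 :=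
      Ideal.Quotient.eq_zero_iff_mem.2 (mem_nilradical.2 ((mem_nilradical.1 ha).map _))
    simp only [AlgHom.comp_apply, h0, map_zero]
  · refine AlgHom.ext fun a => ?_
    rw [AlgHom.comp_apply, AlgHom.comp_apply, AlgHom.comp_apply, ← AlgHom.comp_apply (Ideal.Quotient.mkₐ k J) F, hF]
    simp only [h₃, IsScalarTower.coe_toAlgHom', IsLocalization.liftAlgHom_apply, AlgHom.comp_apply]
    rw [IsLocalization.lift_eq]
    show g ((trans g₀).comp (trans (g₀.comp (HopfAlgebra.antipodeAlgHom k A))) a) = g a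
    rw [trans_trans]
    rfl

theorem eq_bot_of_connected [IsNoetherianRing A] (I : Ideal A) (hIaug : I ≤ aug k A)
    (hI : ∀ x ∈ I, Algebra.TensorProduct.map (Ideal.Quotient.mkₐ k I) (Ideal.Quotient.mkₐ k I)
      (Coalgebra.comul (R := k) x) = 0)
    (hconn : ∀ e : A, IsIdempotentElem e → e = 0 ∨ e = 1) (h : ∀ n, I ≤ aug k A ^ n) : I = ⊥ := by
  obtain ⟨e, he, rfl⟩ := exists_idempotent_span I hI h
  rcases hconn e he with rfl | rfl
  · simp
  · have h1 : Bialgebra.counitAlgHom k A 1 = 0 := hIaug (Ideal.mem_span_singleton_self 1)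
    simp at h1

end Groth.Agent.HopfIdem23
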