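import Groth.Agent.Lib.TruncPoly23.Quot
import Groth.Agent.Lib.GeomRed21.Algebra
import Mathlib.RingTheory.HopfAlgebra.Quotient
import Mathlib.RingTheory.HopfAlgebra.Convolution
import Mathlib.RingTheory.Etale.Field
import Mathlib.RingTheory.Filtration
import Mathlib.RingTheory.Ideal.IdempotentFG

/-!
# Hopf ideals vanishing near the unit are generated by idempotents; Cartier in characteristic zero
-/

universe u v w

open TensorProduct WithConv Groth.Agent.TruncPoly23

noncomputable section

namespace Groth.Agent.HopfIdem23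

variable {k : Type u} [Field k]

theorem exists_one_sub_mem_mul_eq_zero {R : Type v} [CommRing R] [IsNoetherianRing R] (m I : Ideal R)
    (h : ∀ n, I ≤ m ^ n) : ∃ a, a - 1 ∈ m ∧ ∀ x ∈ I, a * x = 0 := by
  have hI : I ≤ m • I := by
    intro x hx
    have hx' : x ∈ (⨅ i : ℕ, m ^ i • ⊤ : Submodule R R) := by
      simp only [Submodule.mem_iInf, smul_eq_mul, Ideal.mul_top]
      exact fun i => h i hx
    obtain ⟨r, hr⟩ := (Ideal.mem_iInf_smul_pow_eq_bot_iff m x).1 hx'
    rw [← hr]
    exact Submodule.smul_mem_smul r.2 hx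
  obtain ⟨a, ha, hax⟩ := Submodule.exists_sub_one_mem_and_smul_eq_zero_of_fg_of_le_smul m I
    (IsNoetherian.noetherian I) hI
  exact ⟨a, ha, hax⟩

variable {A : Type v} [CommRing A] [HopfAlgebra k A]

theorem comp_antipode_mul {C : Type w} [CommRing C] [Algebra k C] (g : A →ₐ[k] C) :
    toConv (g.comp (HopfAlgebra.antipodeAlgHom k A)) * toConv g = 1 := by
  have h := congrArg (fun t => toConv (g.comp t.ofConv)) (AlgHom.antipode_id_cancel (R := k) (A := A))
  simp only [AlgHom.comp_convMul_distrib, ofConv_toConv, AlgHom.comp_id, toConv_ofConv] at h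
  refine h.trans (ofConv_injective (AlgHom.ext fun c => ?_))
  simp [AlgHom.convOne_apply]

theorem mul_comp_antipode {C : Type w} [CommRing C] [Algebra k C] (g : A →ₐ[k] C) :
    toConv g * toConv (g.comp (HopfAlgebra.antipodeAlgHom k A)) = 1 := by
  have h1 := comp_antipode_mul g
  have h2 := comp_antipode_mul (g.comp (HopfAlgebra.antipodeAlgHom k A))
  have h3 : toConv g = toConv ((g.comp (HopfAlgebra.antipodeAlgHom k A)).comp (HopfAlgebra.antipodeAlgHom k A)) := by
    calc toConv g = 1 * toConv g := (one_mul _).symm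
      _ = _ := by rw [← h2, mul_assoc, h1, mul_one]
  calc toConv g * toConv (g.comp (HopfAlgebra.antipodeAlgHom k A))
      = _ := by rw [h3]
    _ = 1 := h2

/-- A coideal with an annihilating element invertible at the unit is an idempotent ideal. -/
theorem isIdempotentElem_of_mul_eq_zero (I : Ideal A)
    (hI : ∀ x ∈ I, Algebra.TensorProduct.map (Ideal.Quotient.mkₐ k I) (Ideal.Quotient.mkₐ k I)
      (Coalgebra.comul (R := k) x) = 0)
    (a : A) (ha : Bialgebra.counitAlgHom k A a = 1) (hax : ∀ x ∈ I, a * x = 0) : IsIdempotentElem I := by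
  let B := A ⧸ I
  let π : A →ₐ[k] B := Ideal.Quotient.mkₐ k I
  let L : A →ₐ[k] A ⊗[k] B := Algebra.TensorProduct.includeLeft
  let Rr : A →ₐ[k] A ⊗[k] B := Algebra.TensorProduct.includeRight.comp π
  let Rr' : A →ₐ[k] A ⊗[k] B := Rr.comp (HopfAlgebra.antipodeAlgHom k A)
  let τ : A →ₐ[k] A ⊗[k] B := (toConv L * toConv Rr).ofConv
  let τ₁ : A →ₐ[k] A ⊗[k] B := (toConv L * toConv Rr').ofConv
  let τ' : A ⊗[k] B →ₐ[k] A ⊗[k] B :=
    Algebra.TensorProduct.lift τ₁ Algebra.TensorProduct.includeRight fun _ _ => Commute.all _ _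
  have hinv : toConv Rr' * toConv Rr = 1 := comp_antipode_mul Rr
  have hcomp : τ'.comp τ = L := by
    have h1 : τ'.comp L = τ₁ := AlgHom.ext fun c => by simp [τ', L]
    have h2 : τ'.comp Rr = Rr := AlgHom.ext fun c => by simp [τ', Rr]
    show τ'.comp (toConv L * toConv Rr).ofConv = L
    rw [AlgHom.comp_convMul_distrib] at *
    simp only [ofConv_toConv, h1, h2, τ₁, toConv_ofConv]
    exact congrArg WithConv.ofConv ((mul_assoc (toConv L : WithConv (A →ₐ[k] A ⊗[k] B)) (toConv Rr') (toConv Rr)).trans ((congrArg (fun t => (toConv L : WithConv (A →ₐ[k] A ⊗[k] B)) * t) hinv).trans (mul_one (toConv L : WithConv (A →ₐ[k] A ⊗[k] B)))))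
  have hτeq : ∀ c, τ c = π.toLinearMap.lTensor A (Coalgebra.comul (R := k) c) := by
    intro c
    show (toConv L * toConv Rr).ofConv c = _
    rw [AlgHom.convMul_def]
    show Algebra.TensorProduct.lmul' k (Algebra.TensorProduct.map L Rr (Coalgebra.comul (R := k) c)) = _
    generalize Coalgebra.comul (R := k) c = z
    induction z with
    | zero => simp
    | add p q hp hq => simp only [map_add, hp, hq]
    | tmul p q => simp [L, Rr]
  have hmem : ∀ x ∈ I, (a ⊗ₜ[k] (1 : B)) * τ x = 0 := by
    intro x hx
    rw [hτeq]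
    have hker : π.toLinearMap.rTensor B (π.toLinearMap.lTensor A (Coalgebra.comul (R := k) x)) = 0 := by
      rw [← LinearMap.comp_apply, LinearMap.rTensor_comp_lTensor]
      exact hI x hx
    have hex : Function.Exact (I.restrictScalars k).subtype π.toLinearMap :=
      LinearMap.exact_iff.2 (by ext y; simp only [LinearMap.mem_ker, Submodule.range_subtype, Submodule.restrictScalars_mem]; exact Ideal.Quotient.eq_zero_iff_mem)
    obtain ⟨w, hw⟩ := (rTensor_exact B hex Ideal.Quotient.mk_surjective _).1 hker
    rw [← hw]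
    clear hw hker
    induction w with
    | zero => simp
    | add p q hp hq => rw [map_add, mul_add, hp, hq, add_zero]
    | tmul p q => simp [hax _ p.2]
  let c := τ₁ a
  have hc : ∀ x ∈ I, c * (x ⊗ₜ[k] (1 : B)) = 0 := by
    intro x hx
    have h1 := congrArg τ' (hmem x hx)
    rw [map_mul, map_zero, ← AlgHom.comp_apply τ' τ, hcomp] at h1
    simpa [τ', c, L, ← Algebra.TensorProduct.one_def] using h1
  classical
  let bB := Module.Free.chooseBasis k B
  obtain ⟨j, hj⟩ := TensorProduct.eq_repr_basis_right bB c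
  have hjx : ∀ i, ∀ x ∈ I, j i * x = 0 := by
    intro i x hx
    have h0 := TensorProduct.sum_tmul_basis_right_eq_zero bB (j.mapRange (· * x) (zero_mul x)) (by
      rw [Finsupp.sum_mapRange_index (by simp), ← hc x hx, ← hj, Finsupp.sum_mul]
      simp)
    exact DFunLike.congr_fun h0 i
  let μ : A ⊗[k] B →ₐ[k] B := Algebra.TensorProduct.lift π (AlgHom.id k B) fun _ _ => Commute.all _ _
  have hμ : μ c = 1 := by
    have h3 : toConv (μ.comp τ₁) = (1 : WithConv (A →ₐ[k] B)) := by
      show toConv (μ.comp (toConv L * toConv Rr').ofConv) = 1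
      rw [AlgHom.comp_convMul_distrib]
      have h1 : μ.comp L = π := AlgHom.ext fun d => by simp [μ, L]
      have h2 : μ.comp Rr' = π.comp (HopfAlgebra.antipodeAlgHom k A) := AlgHom.ext fun d => by simp [μ, Rr', Rr]
      simp only [ofConv_toConv, h1, h2, toConv_ofConv]
      exact mul_comp_antipode π
    show (toConv (μ.comp τ₁)).ofConv a = 1
    rw [h3]
    show algebraMap k B (Bialgebra.counitAlgHom k A a) = 1
    rw [ha, map_one]
  refine le_antisymm Ideal.mul_le_right fun x hx => ?_
  have h1 : (1 : A) - j.sum (fun i m => m * (Ideal.Quotient.mk_surjective (bB i)).choose) ∈ I := by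
    rw [← Ideal.Quotient.eq_zero_iff_mem, map_sub, map_one, ← hμ, ← hj, map_finsuppSum, map_finsuppSum, sub_eq_zero]
    refine Finsupp.sum_congr fun i _ => ?_
    rw [map_mul, (Ideal.Quotient.mk_surjective (bB i)).choose_spec]
    simp [μ, π]
    rfl
  have h2 := Ideal.mul_mem_mul h1 hx
  rwa [sub_mul, one_mul, Finsupp.sum_mul,
    show (j.sum fun i m => m * (Ideal.Quotient.mk_surjective (bB i)).choose * x) = 0 from
      Finset.sum_eq_zero fun i _ => by simp only; rw [mul_right_comm, hjx i x hx, zero_mul], sub_zero] at h2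

/-- A Hopf ideal inside all powers of the augmentation ideal is generated by an idempotent. -/
theorem exists_idempotent_span [IsNoetherianRing A] (I : Ideal A)
    (hI : ∀ x ∈ I, Algebra.TensorProduct.map (Ideal.Quotient.mkₐ k I) (Ideal.Quotient.mkₐ k I)
      (Coalgebra.comul (R := k) x) = 0)
    (h : ∀ n, I ≤ aug k A ^ n) : ∃ e : A, IsIdempotentElem e ∧ I = Ideal.span {e} := by
  obtain ⟨a, ha, hax⟩ := exists_one_sub_mem_mul_eq_zero (aug k A) I h
  refine (Ideal.isIdempotentElem_iff_of_fg I (IsNoetherian.noetherian I)).1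
    (isIdempotentElem_of_mul_eq_zero I hI a ?_ hax)
  rw [RingHom.mem_ker, map_sub, map_one, sub_eq_zero] at ha
  exact ha

omit [HopfAlgebra k A] in
/-- Over a perfect field, the tensor product of reduced algebras of finite type is reduced. -/
theorem isReduced_tensor [PerfectField k] (B : Type v) [CommRing B] [Algebra k B] [Algebra.FiniteType k B]
    [IsReduced B] (C : Type w) [CommRing C] [Algebra k C] [Algebra.FiniteType k C] [IsReduced C] :
    IsReduced (B ⊗[k] C) := by
  have hjac : ∀ (D : Type v) [CommRing D] [Algebra k D] [Algebra.FiniteType k D] [IsReduced D] (d : D),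
      (∀ m : MaximalSpectrum D, Ideal.Quotient.mkₐ k m.asIdeal d = 0) → d = 0 := by
    intro D _ _ _ _ d hd
    have : IsJacobsonRing D := isJacobsonRing_of_finiteType (A := k) (B := D)
    have h : d ∈ (⊥ : Ideal D).jacobson :=
      Submodule.mem_sInf.2 fun m hm => Ideal.Quotient.eq_zero_iff_mem.1 (hd ⟨m, hm.2⟩)
    rw [IsJacobsonRing.out ‹IsJacobsonRing D› (I := (⊥ : Ideal D)) (fun x hx => by
      obtain ⟨n, hn⟩ := hx
      exact (Submodule.mem_bot _).2 (IsReduced.eq_zero x ⟨n, (Submodule.mem_bot _).1 hn⟩))] at h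
    exact (Submodule.mem_bot _).1 h
  have hjacC : ∀ d : C, (∀ m : MaximalSpectrum C, Ideal.Quotient.mkₐ k m.asIdeal d = 0) → d = 0 := by
    intro d hd
    have : IsJacobsonRing C := isJacobsonRing_of_finiteType (A := k) (B := C)
    have h : d ∈ (⊥ : Ideal C).jacobson :=
      Submodule.mem_sInf.2 fun m hm => Ideal.Quotient.eq_zero_iff_mem.1 (hd ⟨m, hm.2⟩)
    rw [IsJacobsonRing.out ‹IsJacobsonRing C› (I := (⊥ : Ideal C)) (fun x hx => by
      obtain ⟨n, hn⟩ := hx
      exact (Submodule.mem_bot _).2 (IsReduced.eq_zero x ⟨n, (Submodule.mem_bot _).1 hn⟩))] at h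
    exact (Submodule.mem_bot _).1 h
  refine GeomRed21.isReduced_tensor_of_jointly_injective
    (fun m : MaximalSpectrum C => Ideal.Quotient.mkₐ k m.asIdeal) hjacC fun m => ?_
  let L := C ⧸ m.asIdeal
  have := m.isMaximal
  let : Field L := Ideal.Quotient.field m.asIdeal
  have : Algebra.FiniteType k L := Algebra.FiniteType.of_surjective (Ideal.Quotient.mkₐ k m.asIdeal) Ideal.Quotient.mk_surjective
  have : Module.Finite k L := finite_of_finite_type_of_isJacobsonRing k L
  have : IsReduced (L ⊗[k] B) := by
    refine GeomRed21.isReduced_tensor_of_jointly_injective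
      (fun q : MaximalSpectrum B => Ideal.Quotient.mkₐ k q.asIdeal) (hjac B) fun q => ?_
    let M := B ⧸ q.asIdeal
    have := q.isMaximal
    let : Field M := Ideal.Quotient.field q.asIdeal
    have : Algebra.IsSeparable k L := inferInstance
    have : Algebra.Etale k L := by
      have := Algebra.FormallyEtale.of_isSeparable k L
      have : Algebra.FinitePresentation k L := Algebra.FinitePresentation.of_finiteType.1 inferInstance
      exact { }
    have : Algebra.Etale M (M ⊗[k] L) := inferInstance
    have : IsReduced (M ⊗[k] L) := Algebra.FormallyUnramified.isReduced_of_field M (M ⊗[k] L)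
    exact isReduced_of_injective (Algebra.TensorProduct.comm k L M) (Algebra.TensorProduct.comm k L M).injective
  exact isReduced_of_injective (Algebra.TensorProduct.comm k B L) (Algebra.TensorProduct.comm k B L).injective

/-- Over a perfect field the nilradical is a coideal. -/
theorem comul_mem_nilradical [PerfectField k] [Algebra.FiniteType k A] {x : A} (hx : x ∈ nilradical A) :
    Algebra.TensorProduct.map (Ideal.Quotient.mkₐ k (nilradical A)) (Ideal.Quotient.mkₐ k (nilradical A))
      (Coalgebra.comul (R := k) x) = 0 := by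
  have : IsReduced (A ⧸ nilradical A) := (Ideal.isRadical_iff_quotient_reduced _).1 (Ideal.radical_isRadical _)
  have : Algebra.FiniteType k (A ⧸ nilradical A) :=
    Algebra.FiniteType.of_surjective (Ideal.Quotient.mkₐ k _) Ideal.Quotient.mk_surjective
  have := isReduced_tensor (k := k) (A ⧸ nilradical A) (A ⧸ nilradical A)
  exact (((mem_nilradical.1 hx).map (Bialgebra.comulAlgHom k A)).map _).eq_zero

theorem eq_bot_of_le_nilradical_of_pow [IsNoetherianRing A] (I : Ideal A) (hN : I ≤ nilradical A)
    (hI : ∀ x ∈ I, Algebra.TensorProduct.map (Ideal.Quotient.mkₐ k I) (Ideal.Quotient.mkₐ k I)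
      (Coalgebra.comul (R := k) x) = 0)
    (h : ∀ n, I ≤ aug k A ^ n) : I = ⊥ := by
  obtain ⟨e, he, rfl⟩ := exists_idempotent_span I hI h
  obtain ⟨n, hn⟩ := mem_nilradical.1 (hN (Ideal.mem_span_singleton_self e))
  rcases n with _ | n
  · simp only [pow_zero] at hn
    have := subsingleton_of_zero_eq_one hn.symm
    exact Subsingleton.elim _ _
  · rw [he.pow_succ_eq] at hn
    simp [hn]

theorem der_mem_nilradical {R : Type v} [CommRing R] [Algebra k R] [CharZero k] (D : Derivation k R R) {x : R}
    (hx : x ∈ nilradical R) : D x ∈ nilradical R := by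
  obtain ⟨n, hn⟩ := mem_nilradical.1 hx
  have key : ∀ j, j ≤ n → x ^ (n - j) * D x ^ (2 * j) = 0 := by
    intro j
    induction j with
    | zero => simp [hn]
    | succ j ih =>
      intro hj
      obtain ⟨m, hm⟩ : ∃ m, n - j = m + 1 := ⟨n - j - 1, by omega⟩
      have h0 := ih (by omega)
      rw [hm] at h0
      have h1 := congrArg D h0
      rw [map_zero, Derivation.leibniz, Derivation.leibniz_pow, Derivation.leibniz_pow] at h1
      simp only [smul_eq_mul, nsmul_eq_mul, Nat.add_sub_cancel] at h1
      have h2 : ((m + 1 : ℕ) : R) * (x ^ m * D x ^ (2 * (j + 1))) = 0 := by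
        rcases j with _ | j
        · simp at h1 ⊢; linear_combination (D x) * h1
        · have e1 : 2 * (j + 1) - 1 = 2 * j + 1 := by omega
          rw [e1] at h1
          linear_combination (D x) * h1 - ((2 * (j + 1) : ℕ) : R) * D (D x) * h0
      rw [show n - (j + 1) = m by omega]
      have h3 : IsUnit ((m + 1 : ℕ) : R) := by
        rw [← map_natCast (algebraMap k R)]
        exact (isUnit_iff_ne_zero.2 (Nat.cast_ne_zero.2 (Nat.succ_ne_zero m))).map _
      exact h3.mul_right_eq_zero.1 h2
  refine mem_nilradical.2 ⟨2 * n, ?_⟩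
  simpa using key n le_rfl

/-- Cartier: Hopf algebras of finite type in characteristic zero are reduced. -/
theorem isReduced_of_charZero [CharZero k] [Algebra.FiniteType k A] : IsReduced A := by
  classical
  have : IsNoetherianRing A := Algebra.FiniteType.isNoetherianRing k A
  have := finite_cotangent (k := k) (A := A)
  let b := Module.finBasis k (aug k A).Cotangent
  have haug : nilradical A ≤ aug k A := by
    intro x hx
    exact ((mem_nilradical.1 hx).map (Bialgebra.counitAlgHom k A)).eq_zero
  have h : ∀ n, nilradical A ≤ aug k A ^ n := by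
    intro n
    induction n with
    | zero => simp
    | succ n ih =>
      intro x hx
      obtain ⟨s, hs, r, hr, rfl⟩ := Submodule.mem_sup.1 (pow_le_monoSpan_sup b n (ih hx))
      have hset : {m : Fin (Module.finrank k (aug k A).Cotangent) → ℕ | ∑ i, m i = n} =
          ((deg n : Finset (Fin (Module.finrank k (aug k A).Cotangent) → ℕ)) : Set _) :=
        Set.ext fun m => mem_deg.symm
      rw [monoSpan, hset, Finsupp.mem_span_image_iff_linearCombination] at hs
      obtain ⟨f, hf, hf'⟩ := hs
      obtain ⟨c, hc⟩ : ∃ c : (Fin (Module.finrank k (aug k A).Cotangent) → ℕ) → k,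
          ∑ m ∈ deg n, c m • mono b m = s := by
        refine ⟨f, ?_⟩
        rw [← hf', Finsupp.linearCombination_apply, Finsupp.sum]
        refine (Finset.sum_subset (Finset.coe_subset.1 ((Finsupp.mem_supported _ _).1 hf)) fun m _ hm => ?_).symm
        rw [Finsupp.notMem_support_iff.1 hm, zero_smul]
      have hmem : ∑ m ∈ deg n, c m • mono b m ∈ aug k A ^ (n + 1) ⊔ nilradical A := by
        rw [hc]
        have := sub_mem (Submodule.mem_sup_right (S := aug k A ^ (n + 1)) hx)
          (Submodule.mem_sup_left (show r ∈ aug k A ^ (n + 1) from hr))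
        rwa [add_sub_cancel_right] at this
      have h0 := coeff_eq_zero_of_mem b _ haug (fun i a ha => der_mem_nilradical (der b i) ha) n (deg n)
        (fun m hm => ⟨mem_deg.1 hm, fun i l _ hl => Nat.cast_ne_zero.2 hl⟩) c hmem
      rw [← hc, Finset.sum_eq_zero fun m hm => by rw [h0 m hm, zero_smul], zero_add]
      exact hr
  exact ⟨fun x hx => by
    have := eq_bot_of_le_nilradical_of_pow _ le_rfl (fun x hx => comul_mem_nilradical hx) h
    rw [← mem_nilradical, this] at hx
    exact hx⟩

end Groth.Agent.HopfIdem23
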